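import Cfsg.Agent.Lib.Chev.Tw.TitsSimple

/-!
Acting with root elements on all unit rows at once, packed into one number.
-/

set_option autoImplicit false
set_option linter.all false

namespace Cfsg.Agent.KnownA.Tits

open Cfsg.Lie Cfsg.Agent.Lib.Chev Cfsg.Agent.Lib.Chev.Tw Cfsg.Agent.Lib.Chev.Tw.F4
open scoped Matrix

/-- Rows packed into blocks of 52 bits. -/
def pack : List ℕ → ℕ
  | [] => 0
  | v :: l => 2 ^ 52 * pack l + v

/-- The lowest bit of each of `n` blocks. -/
def onesN : ℕ → ℕ
  | 0 => 0
  | n + 1 => 2 ^ 52 * onesN n + 1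

/-- One root element on all blocks. -/
def applyB (o : ℕ) (r S : ℕ) : ℕ :=
  (rowsOf r).foldl (fun w p => w ^^^ ((S >>> p.1) &&& o) * p.2) S

/-- A word on all blocks. -/
def applyBW (o : ℕ) : List ℕ → ℕ → ℕ
  | [], S => S
  | r :: w, S => applyBW o w (applyB o r S)

theorem pack_zip : ∀ (l m : List ℕ), l.length = m.length → (∀ v ∈ l, v < 2 ^ 52) → (∀ v ∈ m, v < 2 ^ 52) →
    pack l ^^^ pack m = pack (List.zipWith (· ^^^ ·) l m)
  | [], [], _, _, _ => by simp [pack]
  | [], _ :: _, h, _, _ => by simp at h
  | _ :: _, [], h, _, _ => by simp at h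
  | v :: l, w :: m, h, hl, hm => by
    have hv := hl v List.mem_cons_self
    have hw := hm w List.mem_cons_self
    have ih := pack_zip l m (by simpa using h) (fun x hx => hl x (List.mem_cons_of_mem _ hx))
      (fun x hx => hm x (List.mem_cons_of_mem _ hx))
    simp only [pack, List.zipWith_cons_cons]
    apply Nat.eq_of_testBit_eq
    intro j
    rw [Nat.testBit_xor, Nat.testBit_two_pow_mul_add _ hv, Nat.testBit_two_pow_mul_add _ hw,
      Nat.testBit_two_pow_mul_add _ (Nat.xor_lt_two_pow hv hw), ← ih]
    split_ifs <;> simp [Nat.testBit_xor]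

theorem sel (i : ℕ) (hi : i < 52) : ∀ (l : List ℕ), (∀ v ∈ l, v < 2 ^ 52) →
    (pack l >>> i) &&& onesN l.length = pack (l.map fun v => (v.testBit i).toNat)
  | [], _ => by simp [pack, onesN]
  | v :: l, hl => by
    have hv := hl v List.mem_cons_self
    have ih := sel i hi l fun x hx => hl x (List.mem_cons_of_mem _ hx)
    simp only [List.length_cons, pack, onesN, List.map_cons]
    apply Nat.eq_of_testBit_eq
    intro j
    have hb : (v.testBit i).toNat < 2 ^ 52 := by cases v.testBit i <;> norm_num
    rw [Nat.testBit_and, Nat.testBit_shiftRight, Nat.testBit_two_pow_mul_add _ hv,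
      Nat.testBit_two_pow_mul_add _ (show 1 < 2 ^ 52 by norm_num),
      Nat.testBit_two_pow_mul_add _ hb, ← ih]
    rcases Nat.lt_or_ge j 52 with h | h
    · rw [if_pos h, if_pos h]
      rcases Nat.eq_zero_or_pos j with rfl | h0
      · simp [hi]
        cases v.testBit i <;> rfl
      · have : Nat.testBit 1 j = false := by
          rw [show (1 : ℕ) = 2 ^ 0 from rfl, Nat.testBit_two_pow]; simp; omega
        rw [this, Bool.and_false]
        cases v.testBit i <;> simp [Bool.toNat, this]
    · rw [if_neg (by omega), if_neg (by omega), if_neg (by omega), Nat.testBit_and,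
        Nat.testBit_shiftRight, show i + j - 52 = i + (j - 52) by omega]

theorem pack_mul (c : ℕ) : ∀ (l : List ℕ), pack l * c = pack (l.map (· * c))
  | [] => by simp [pack]
  | v :: l => by simp only [pack, List.map_cons, ← pack_mul c l]; ring

theorem applyB_pack (r : ℕ) (hr : ∀ p ∈ rowsOf r, p.1 < 52 ∧ p.2 < 2 ^ 52) (l : List ℕ)
    (hl : ∀ v ∈ l, v < 2 ^ 52) :
    applyB (onesN l.length) r (pack l) = pack (l.map (applyT r)) := by
  unfold applyB applyT
  generalize rowsOf r = rows at hr
  suffices key : ∀ f : ℕ → ℕ, (∀ v ∈ l, f v < 2 ^ 52) →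
      rows.foldl (fun w p => w ^^^ ((pack l >>> p.1) &&& onesN l.length) * p.2) (pack (l.map f)) =
        pack (l.map fun v => rows.foldl (fun w p => if Nat.testBit v p.1 then w ^^^ p.2 else w) (f v)) by
    simpa using key id hl
  induction rows with
  | nil => intro f _; simp
  | cons p rows ih =>
    intro f hf
    obtain ⟨h1, h2⟩ := hr p List.mem_cons_self
    have e : pack (l.map f) ^^^ ((pack l >>> p.1) &&& onesN l.length) * p.2 =
        pack (l.map fun v => if Nat.testBit v p.1 then f v ^^^ p.2 else f v) := by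
      rw [sel _ h1 l hl, pack_mul, List.map_map, pack_zip _ _ (by simp)]
      · congr 1
        rw [List.zipWith_map, List.zipWith_self]
        refine List.map_congr_left fun v _ => ?_
        by_cases hb : Nat.testBit v p.1 <;> simp [hb]
      · simpa using hf
      · intro x hx
        simp only [List.mem_map, Function.comp] at hx
        obtain ⟨v, _, rfl⟩ := hx
        cases v.testBit p.1 <;> simpa using h2
    rw [List.foldl_cons, e, ih (fun q hq => hr q (List.mem_cons_of_mem _ hq))]
    · rfl
    · intro v hv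
      split
      · exact Nat.xor_lt_two_pow (hf v hv) h2
      · exact hf v hv

theorem rows_bound {r : ℕ} (hr : r ∈ rowL.map Prod.fst) :
    ∀ p ∈ rowsOf r, p.1 < 52 ∧ p.2 < 2 ^ 52 := by
  have hd := List.all_eq_true.1 row_chk r hr
  simp only [decide_eq_true_eq, Bool.and_eq_true, List.all_eq_true] at hd
  exact fun p hp => hd.2.1 p hp

theorem applyBW_pack : ∀ (w : List ℕ), (∀ r ∈ w, r ∈ rowL.map Prod.fst) → ∀ (l : List ℕ),
    (∀ v ∈ l, v < 2 ^ 52) → applyBW (onesN l.length) w (pack l) = pack (l.map (applyTW w))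
  | [], _, l, _ => by
    show pack l = _
    exact congrArg pack ((List.map_id l).symm.trans (List.map_congr_left fun _ _ => rfl))
  | r :: w, hw, l, hl => by
    have hlt : ∀ v ∈ l.map (applyT r), v < 2 ^ 52 := by
      simp only [List.mem_map]
      rintro _ ⟨v, hv, rfl⟩
      exact (applyT_spec (K := ZMod 2) (hw r List.mem_cons_self) v (hl v hv)).1
    have ih := applyBW_pack w (fun x hx => hw x (List.mem_cons_of_mem _ hx)) _ hlt
    rw [List.length_map, List.map_map] at ih
    show applyBW _ w (applyB _ r (pack l)) = _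
    rw [applyB_pack r (rows_bound (hw r List.mem_cons_self)) l hl, ih]
    rfl

theorem pack_inj : ∀ {l m : List ℕ}, l.length = m.length → (∀ v ∈ l, v < 2 ^ 52) →
    (∀ v ∈ m, v < 2 ^ 52) → pack l = pack m → l = m
  | [], [], _, _, _, _ => rfl
  | [], _ :: _, h, _, _, _ => by simp at h
  | _ :: _, [], h, _, _, _ => by simp at h
  | v :: l, w :: m, h, hl, hm, e => by
    have hv := hl v List.mem_cons_self
    have hw := hm w List.mem_cons_self
    simp only [pack] at e
    have e1 := congrArg (· % 2 ^ 52) e
    simp only [Nat.mul_add_mod, Nat.mod_eq_of_lt hv, Nat.mod_eq_of_lt hw] at e1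
    subst e1
    rw [pack_inj (by simpa using h) (fun x hx => hl x (List.mem_cons_of_mem _ hx))
      (fun x hx => hm x (List.mem_cons_of_mem _ hx))
      (Nat.eq_of_mul_eq_mul_left (show 0 < 2 ^ 52 by norm_num) (Nat.add_right_cancel e))]

end Cfsg.Agent.KnownA.Tits
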