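import Mathlib

/-!
No doubly transitive action: counting fixed points for a group of order `17971200` with a few
commutation and conjugation relations among elements of orders 3, 5 and 13.
-/

set_option autoImplicit false
set_option linter.all false

namespace Cfsg.Agent.KnownA.Tits

open MulAction

/-- The labels of the elements of the extraspecial group of order 27. -/
abbrev V3 := ZMod 3 × ZMod 3 × ZMod 3

/-- The product of labels. -/
def mul3 (v w : V3) : V3 := (v.1 + w.1 + 2 * v.2.2 * w.2.1, v.2.1 + w.2.1, v.2.2 + w.2.2)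

/-- The thirteen cyclic subgroups. -/
def reps3 : List V3 :=
  [(0, 0, 1), (0, 1, 0), (0, 1, 1), (0, 2, 1), (1, 0, 0), (1, 0, 1), (1, 1, 0), (1, 1, 1), (1, 2, 1),
    (2, 0, 1), (2, 1, 0), (2, 1, 1), (2, 2, 1)]

variable {G : Type*} [Group G]

/-- The element with a given label. -/
def f3 (z b1 b2 : G) (v : V3) : G := z ^ v.1.val * b1 ^ v.2.1.val * b2 ^ v.2.2.val

/-- The element with a given label in an elementary abelian group of order 25. -/
def f5 (z b : G) (v : ZMod 5 × ZMod 5) : G := b ^ v.2.val * z ^ v.1.val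

/-- The relations and conjugations. -/
structure Facts (G : Type*) [Group G] where
  x : G
  y : G
  x_ne : x ≠ 1
  x_pow : x ^ 13 = 1
  y_ne : y ≠ 1
  y_pow : y ^ 3 = 1
  xy : x * y = y * x ^ 3
  z : G
  b1 : G
  b2 : G
  z_ne : z ≠ 1
  z_pow : z ^ 3 = 1
  b1_pow : b1 ^ 3 = 1
  b2_pow : b2 ^ 3 = 1
  zb1 : z * b1 = b1 * z
  zb2 : z * b2 = b2 * z
  b21 : b2 * b1 = b1 * b2 * z ^ 2
  conj3 : ∀ v ∈ reps3, ∃ u : G, f3 z b1 b2 v * u = u * z
  w : G
  b : G
  w_ne : w ≠ 1
  w_pow : w ^ 5 = 1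
  b_pow : b ^ 5 = 1
  wb : w * b = b * w
  conj5 : ∀ i : ZMod 5, ∃ u : G, f5 w b (i, 1) * u = u * w

variable {Ω : Type*} [MulAction G Ω]

/-- The number of fixed points. -/
noncomputable def nfix (Ω : Type*) [MulAction G Ω] (g : G) : ℕ := Nat.card (fixedBy Ω g)

theorem nfix_conj {g h u : G} (e : g * u = u * h) : nfix Ω g = nfix Ω h := by
  have he : u⁻¹ * g = h * u⁻¹ := by
    calc u⁻¹ * g = u⁻¹ * (g * u) * u⁻¹ := by group
      _ = h * u⁻¹ := by rw [e]; group
  refine Nat.card_congr ((MulAction.toPerm (u⁻¹) : Equiv.Perm Ω).subtypeEquiv fun a => ?_)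
  simp only [mem_fixedBy, MulAction.toPerm_apply, smul_smul, ← he]
  rw [← smul_smul, smul_left_cancel_iff]

theorem nfix_pow {g : G} {p a : ℕ} (hp : g ^ p = 1) (ha : ∃ c, (a * c) % p = 1) :
    nfix Ω (g ^ a) = nfix Ω g := by
  obtain ⟨c, hc⟩ := ha
  have key : ∀ (h : G) (m : ℕ), fixedBy Ω h ⊆ fixedBy Ω (h ^ m) := by
    intro h m o ho
    induction m with
    | zero => simp
    | succ m ih => rw [pow_succ, mem_fixedBy, mul_smul, show h • o = o from ho, ih]
  have hg : (g ^ a) ^ c = g := by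
    conv_rhs => rw [← pow_one g]
    rw [← pow_mul, ← Nat.mod_add_div (a * c) p, hc, pow_add, pow_mul, hp, one_pow, mul_one]
  have e : fixedBy Ω (g ^ a) = fixedBy Ω g :=
    Set.Subset.antisymm ((key (g ^ a) c).trans (by rw [hg])) (key g a)
  rw [nfix, e]; rfl

theorem nfix_lt [Finite Ω] [FaithfulSMul G Ω] {g : G} (hg : g ≠ 1) : nfix Ω g < Nat.card Ω := by
  refine (Finite.card_subtype_lt (p := fun a => a ∈ fixedBy Ω g) (x := ?_) ?_)
  · exact (not_forall.1 fun h => hg (eq_of_smul_eq_smul fun a : Ω => by simpa using h a)).choose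
  · exact (not_forall.1 fun h => hg (eq_of_smul_eq_smul fun a : Ω => by simpa using h a)).choose_spec

theorem nfix_one : nfix Ω (1 : G) = Nat.card Ω := by
  rw [nfix, MulAction.fixedBy_one_eq_univ, Nat.card_coe_set_eq, Set.ncard_univ]

theorem pow_val_add {n : ℕ} [NeZero n] {g : G} (h : g ^ n = 1) (a b : ZMod n) :
    g ^ (a + b).val = g ^ a.val * g ^ b.val := by
  rw [ZMod.val_add, ← pow_eq_pow_mod _ h, pow_add]

namespace Facts

variable (D : Facts G)

theorem b21_pow (k j : ℕ) : D.b2 ^ k * D.b1 ^ j = D.b1 ^ j * D.b2 ^ k * D.z ^ (2 * k * j) := by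
  have hz1 : Commute D.z D.b1 := D.zb1
  have hz2 : Commute D.z D.b2 := D.zb2
  have h1 : ∀ j : ℕ, D.b2 * D.b1 ^ j = D.b1 ^ j * D.b2 * D.z ^ (2 * j) := by
    intro j
    induction j with
    | zero => simp
    | succ j ih =>
      calc D.b2 * D.b1 ^ (j + 1) = D.b2 * D.b1 ^ j * D.b1 := by rw [pow_succ, mul_assoc]
        _ = D.b1 ^ j * D.b2 * (D.z ^ (2 * j) * D.b1) := by rw [ih]; group
        _ = D.b1 ^ j * (D.b2 * D.b1) * D.z ^ (2 * j) := by rw [(hz1.pow_left _).eq]; group
        _ = D.b1 ^ (j + 1) * D.b2 * (D.z ^ 2 * D.z ^ (2 * j)) := by rw [D.b21, pow_succ]; group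
        _ = _ := by rw [← pow_add]; congr 2; ring
  induction k with
  | zero => simp
  | succ k ih =>
    calc D.b2 ^ (k + 1) * D.b1 ^ j = D.b2 ^ k * (D.b2 * D.b1 ^ j) := by rw [pow_succ, mul_assoc]
      _ = D.b2 ^ k * D.b1 ^ j * (D.b2 * D.z ^ (2 * j)) := by rw [h1]; group
      _ = D.b1 ^ j * D.b2 ^ k * (D.z ^ (2 * k * j) * D.b2) * D.z ^ (2 * j) := by rw [ih]; group
      _ = D.b1 ^ j * (D.b2 ^ k * D.b2) * (D.z ^ (2 * k * j) * D.z ^ (2 * j)) := by
        rw [(hz2.pow_left _).eq]; group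
      _ = _ := by rw [← pow_succ, ← pow_add]; congr 2; ring

theorem f3_mul (v w : V3) :
    f3 D.z D.b1 D.b2 v * f3 D.z D.b1 D.b2 w = f3 D.z D.b1 D.b2 (mul3 v w) := by
  obtain ⟨i, j, k⟩ := v
  obtain ⟨i', j', k'⟩ := w
  have hz1 : Commute D.z D.b1 := D.zb1
  have hz2 : Commute D.z D.b2 := D.zb2
  have e : D.z ^ ((2 : ZMod 3) * k * j').val = D.z ^ (2 * k.val * j'.val) := by
    rw [pow_eq_pow_mod (2 * k.val * j'.val) D.z_pow]
    congr 1
    revert k j'; decide
  simp only [f3, mul3]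
  rw [pow_val_add D.z_pow, pow_val_add D.z_pow, pow_val_add D.b1_pow, pow_val_add D.b2_pow, e]
  calc D.z ^ i.val * D.b1 ^ j.val * D.b2 ^ k.val * (D.z ^ i'.val * D.b1 ^ j'.val * D.b2 ^ k'.val)
      = D.z ^ i.val * D.b1 ^ j.val * (D.b2 ^ k.val * D.z ^ i'.val) * D.b1 ^ j'.val * D.b2 ^ k'.val := by
        group
    _ = D.z ^ i.val * (D.b1 ^ j.val * D.z ^ i'.val) * (D.b2 ^ k.val * D.b1 ^ j'.val) * D.b2 ^ k'.val := by
        rw [← (hz2.pow_pow _ _).eq]; group
    _ = D.z ^ i.val * D.z ^ i'.val * D.b1 ^ j.val * (D.b1 ^ j'.val * D.b2 ^ k.val *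
          D.z ^ (2 * k.val * j'.val)) * D.b2 ^ k'.val := by
        rw [← (hz1.pow_pow _ _).eq, D.b21_pow]; group
    _ = D.z ^ i.val * D.z ^ i'.val * (D.b1 ^ j.val * D.b1 ^ j'.val * D.b2 ^ k.val *
          D.z ^ (2 * k.val * j'.val)) * D.b2 ^ k'.val := by group
    _ = D.z ^ i.val * D.z ^ i'.val * (D.z ^ (2 * k.val * j'.val) *
          (D.b1 ^ j.val * D.b1 ^ j'.val * D.b2 ^ k.val)) * D.b2 ^ k'.val := by
        rw [((((hz1.pow_pow (2 * k.val * j'.val) j.val).mul_right (hz1.pow_pow _ j'.val)).mul_right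
          (hz2.pow_pow _ k.val))).eq]
    _ = _ := by group

theorem f3_zero : f3 D.z D.b1 D.b2 0 = 1 := by simp [f3]

theorem nfix_f3 {v : V3} (hv : v ≠ 0) : nfix Ω (f3 D.z D.b1 D.b2 v) = nfix Ω D.z := by
  have hc : ∀ v : V3, v ≠ 0 → v ∈ reps3 ∨ ∃ r ∈ reps3, mul3 r v = 0 := by decide
  have key : ∀ r ∈ reps3, nfix Ω (f3 D.z D.b1 D.b2 r) = nfix Ω D.z := fun r hr => by
    obtain ⟨u, hu⟩ := D.conj3 r hr
    exact nfix_conj hu
  rcases hc v hv with h | ⟨r, hr, e⟩
  · exact key v h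
  · have h1 : f3 D.z D.b1 D.b2 v = (f3 D.z D.b1 D.b2 r)⁻¹ :=
      eq_inv_of_mul_eq_one_right (by rw [D.f3_mul, e, D.f3_zero])
    rw [h1, nfix, MulAction.fixedBy_inv]
    exact key r hr

theorem f5_mul (v w : ZMod 5 × ZMod 5) : f5 D.w D.b v * f5 D.w D.b w = f5 D.w D.b (v + w) := by
  have h : Commute D.w D.b := D.wb
  simp only [f5, Prod.fst_add, Prod.snd_add]
  rw [pow_val_add D.w_pow, pow_val_add D.b_pow, mul_assoc, ← mul_assoc (D.w ^ v.1.val),
    (h.pow_pow v.1.val w.2.val).eq]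
  group

theorem f5_zero : f5 D.w D.b 0 = 1 := by simp [f5]

theorem nfix_f5 {v : ZMod 5 × ZMod 5} (hv : v ≠ 0) : nfix Ω (f5 D.w D.b v) = nfix Ω D.w := by
  obtain ⟨i, j⟩ := v
  have hp : ∀ (r : ZMod 5 × ZMod 5) (m : ℕ), f5 D.w D.b r ^ m = f5 D.w D.b (m • r) := by
    intro r m
    induction m with
    | zero => simp [D.f5_zero]
    | succ m ih => rw [pow_succ, ih, D.f5_mul, succ_nsmul]
  have hu : ∀ a : ZMod 5, a ≠ 0 → ∃ c, (a.val * c) % 5 = 1 := fun a ha => by
    have key : ∀ a : ZMod 5, a ≠ 0 → ∃ c : Fin 5, (a.val * (c : ℕ)) % 5 = 1 := by decide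
    obtain ⟨c, hc⟩ := key a ha
    exact ⟨c, hc⟩
  rcases eq_or_ne j 0 with rfl | hj
  · have hi : i ≠ 0 := fun h => hv (by rw [h]; rfl)
    have e : f5 D.w D.b (i, 0) = D.w ^ i.val := by simp [f5]
    rw [e]; exact nfix_pow D.w_pow (hu i hi)
  · have key : ∀ i j : ZMod 5, j ≠ 0 → ∃ r : ZMod 5, j.val • ((r, 1) : ZMod 5 × ZMod 5) = (i, j) := by
      decide
    have key5 : ∀ r : ZMod 5, (5 : ℕ) • ((r, 1) : ZMod 5 × ZMod 5) = 0 := by decide
    obtain ⟨r, e⟩ := key i j hj
    obtain ⟨u, hu'⟩ := D.conj5 r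
    rw [← e, ← hp, nfix_pow (p := 5) (by rw [hp, key5, D.f5_zero]) (hu j hj)]
    exact nfix_conj hu'

/-- A finite subgroup from labels. -/
theorem exists_sub {V : Type*} [Finite V] [Zero V] (f : V → G) (m : V → V → V)
    (h0 : f 0 = 1) (hm : ∀ a b, f a * f b = f (m a b)) (hinv : ∀ a, ∃ b, m b a = 0)
    (hne : ∀ a, a ≠ 0 → f a ≠ 1) (hcan : ∀ a b c, m c a = 0 → m c b = 0 → a = b) :
    ∃ P : Subgroup G, (P : Set G) = Set.range f ∧ Function.Injective f := by
  refine ⟨{ carrier := Set.range f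
            one_mem' := ⟨0, h0⟩
            mul_mem' := ?_
            inv_mem' := ?_ }, rfl, ?_⟩
  · rintro _ _ ⟨a, rfl⟩ ⟨b, rfl⟩; exact ⟨_, (hm a b).symm⟩
  · rintro _ ⟨a, rfl⟩
    obtain ⟨b, hb⟩ := hinv a
    exact ⟨b, eq_inv_of_mul_eq_one_left (by rw [hm, hb, h0])⟩
  · intro a b hab
    obtain ⟨c, hc⟩ := hinv a
    refine hcan a b c hc (by_contra fun h => hne _ h ?_)
    rw [← hm, ← hab, hm, hc, h0]

theorem sum_nfix [Finite Ω] (P : Subgroup G) [Fintype P] {V : Type*} [Fintype V] [DecidableEq V]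
    [Zero V] (f : V → G) (hP : (P : Set G) = Set.range f) (hf : Function.Injective f) (h0 : f 0 = 1)
    {F : ℕ} (hF : ∀ v, v ≠ 0 → nfix Ω (f v) = F) :
    ∑ g : P, Nat.card (fixedBy Ω g) = Nat.card Ω + (Fintype.card V - 1) * F ∧
      Fintype.card P = Fintype.card V := by
  classical
  let e : V ≃ P := Equiv.ofBijective
    (fun v => ⟨f v, by rw [← SetLike.mem_coe, hP]; exact ⟨v, rfl⟩⟩)
    ⟨fun a b h => hf (congrArg Subtype.val h), fun g => by
      obtain ⟨v, hv⟩ : (g : G) ∈ Set.range f := hP ▸ g.2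
      exact ⟨v, Subtype.ext hv⟩⟩
  refine ⟨?_, (Fintype.card_congr e).symm⟩
  rw [← e.sum_comp, ← Finset.sum_erase_add _ _ (Finset.mem_univ (0 : V))]
  have h1 : ∀ v : V, Nat.card (fixedBy Ω (e v)) = nfix Ω (f v) := fun v =>
    Nat.card_congr (Equiv.subtypeEquivRight fun a => Iff.rfl)
  simp only [h1]
  rw [Finset.sum_congr rfl fun v hv => hF v (Finset.ne_of_mem_erase hv), h0, nfix_one]
  simp [add_comm]

/-- Burnside's count with the orbit number and the stabilizers. -/
theorem burnside [Finite Ω] (P : Subgroup G) [Fintype P] :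
    (∃ k, ∑ g : P, Nat.card (fixedBy Ω g) = k * Fintype.card P) ∧
      ∀ B, (∀ a : Ω, Nat.card (MulAction.stabilizer P a) ≤ B) →
        ∑ g : P, Nat.card (fixedBy Ω g) ≤ Nat.card Ω * B := by
  classical
  have : Fintype Ω := Fintype.ofFinite Ω
  refine ⟨⟨Fintype.card (Quotient (MulAction.orbitRel P Ω)), ?_⟩, fun B hB => ?_⟩
  · rw [← sum_card_fixedBy_eq_card_orbits_mul_card_group (G := P) (X := Ω)]
    simp [Nat.card_eq_fintype_card]
  · have e : ∑ g : P, Nat.card (fixedBy Ω g) = ∑ a : Ω, Nat.card (MulAction.stabilizer P a) := by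
      simp only [Nat.card_eq_fintype_card, Fintype.card_subtype, mem_fixedBy,
        MulAction.mem_stabilizer_iff, Finset.card_filter]
      exact Finset.sum_comm
    rw [e]
    refine (Finset.sum_le_sum fun a _ => hB a).trans ?_
    simp [Nat.card_eq_fintype_card]

/-- The candidate degrees. -/
theorem degrees : (List.range 4242).all (fun n => decide (n < 27) || decide (n = 27) || decide (n = 40) ||
    decide (n = 65) || decide (17971200 % (n * (n - 1)) ≠ 0)) = true := by decide +kernel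

theorem not_two_transitive (D : Facts G) [Finite G] (hcard : Nat.card G = 17971200) [Finite Ω]
    [FaithfulSMul G Ω] (hn : 3 ≤ Nat.card Ω) : ¬ IsMultiplyPretransitive G Ω 2 := by
  classical
  intro h2
  set n := Nat.card Ω with hnd
  obtain ⟨a, b, hab⟩ : ∃ a b : Ω, a ≠ b := by
    have : Nontrivial Ω := Finite.one_lt_card_iff_nontrivial.1 (by omega)
    exact exists_pair_ne Ω
  have htr : IsPretransitive G Ω := ⟨fun x y => by
    have : Nontrivial Ω := ⟨a, b, hab⟩
    obtain ⟨x', hx⟩ := exists_ne x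
    obtain ⟨y', hy⟩ := exists_ne y
    obtain ⟨g, hg, -⟩ := is_two_pretransitive_iff.1 h2 hx.symm hy.symm
    exact ⟨g, hg⟩⟩
  have hstab : ∀ c : Ω, n * Nat.card (stabilizer G c) = 17971200 := fun c => by
    rw [← hcard, ← Subgroup.index_mul_card (stabilizer G c), index_stabilizer_of_transitive]
  have hnn : n * (n - 1) ∣ 17971200 := by
    haveI : IsPretransitive G (Fin 2 ↪ Ω) := h2
    have e : Nat.card (Fin 2 ↪ Ω) = n * (n - 1) := by
      haveI := Fintype.ofFinite Ω
      rw [Nat.card_eq_fintype_card, Fintype.card_embedding_eq, hnd, Nat.card_eq_fintype_card,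
        Fintype.card_fin, Nat.descFactorial_succ, Nat.descFactorial_one, mul_comm]
    have : Nonempty (Fin 2 ↪ Ω) := Finite.card_pos_iff.1 (by rw [e]; exact Nat.mul_pos (by omega) (by omega))
    obtain ⟨p⟩ := this
    rw [← e, ← index_stabilizer_of_transitive G p, ← hcard]
    exact Subgroup.index_dvd_card _
  have hle : n ≤ 4241 := by
    have h := Nat.le_of_dvd (by norm_num) hnn
    by_contra hc
    have := Nat.mul_le_mul (show 4242 ≤ n by omega) (show 4241 ≤ n - 1 by omega)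
    omega
  have hcases : n < 27 ∨ n = 27 ∨ n = 40 ∨ n = 65 := by
    have := List.all_eq_true.1 degrees n (List.mem_range.2 (by omega))
    simp only [Bool.or_eq_true, decide_eq_true_eq] at this
    rcases this with (((h | h) | h) | h) | h
    · exact Or.inl h
    · exact Or.inr (Or.inl h)
    · exact Or.inr (Or.inr (Or.inl h))
    · exact Or.inr (Or.inr (Or.inr h))
    · exact absurd (Nat.mod_eq_zero_of_dvd hnn) h
  rcases hcases with h27 | h27 | h4065
  · -- the extraspecial group of order 27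
    have hF := nfix_lt (Ω := Ω) D.z_ne
    set F := nfix Ω D.z with hFd
    obtain ⟨P, hP, hf⟩ := exists_sub (f3 D.z D.b1 D.b2) mul3 D.f3_zero D.f3_mul (by decide)
      (fun v hv e => by
        have h1 := D.nfix_f3 (Ω := Ω) hv
        rw [e, nfix_one] at h1
        omega) (by decide)
    haveI : Fintype P := Fintype.ofFinite P
    obtain ⟨hs, hc⟩ := sum_nfix P _ hP hf D.f3_zero (F := F) fun v hv => D.nfix_f3 hv
    obtain ⟨⟨k, hk⟩, -⟩ := burnside (Ω := Ω) P
    rw [hs, hc, show Fintype.card V3 = 27 from rfl] at hk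
    omega
  · -- the normalizer of a subgroup of order 13
    haveI : Fact (Nat.Prime 13) := ⟨by norm_num⟩
    haveI : Fact (Nat.Prime 3) := ⟨by norm_num⟩
    set X := Subgroup.zpowers D.x
    have hX : IsPGroup 13 X := IsPGroup.of_card (n := 1)
      (by rw [Nat.card_zpowers, orderOf_eq_prime D.x_pow D.x_ne, pow_one])
    have hfix : ∀ a : Ω, a ∈ fixedPoints X Ω ↔ D.x • a = a := by
      intro a
      refine ⟨fun h => h ⟨D.x, Subgroup.mem_zpowers _⟩, fun h g => ?_⟩
      have : X ≤ stabilizer G a := Subgroup.zpowers_le.2 h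
      exact this g.2
    have hmod := hX.card_modEq_card_fixedPoints Ω
    have hlt : Nat.card (fixedPoints X Ω) < 27 := by
      rw [show fixedPoints X Ω = fixedBy Ω D.x from Set.ext hfix]
      exact h27 ▸ nfix_lt D.x_ne
    -- `y` permutes the fixed points of `x`
    set Y := Subgroup.zpowers D.y
    have hY : IsPGroup 3 Y := IsPGroup.of_card (n := 1)
      (by rw [Nat.card_zpowers, orderOf_eq_prime D.y_pow D.y_ne, pow_one])
    let S : SubMulAction Y Ω :=
      { carrier := fixedPoints X Ω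
        smul_mem' := by
          have hy : ∀ a : Ω, D.x • a = a → D.x • (D.y • a) = D.y • a := by
            intro a ha
            rw [smul_smul, D.xy, mul_smul]
            congr 1
            rw [pow_succ, pow_two, mul_smul, mul_smul, ha, ha, ha]
          rintro ⟨g, hg⟩ a ha
          rw [hfix] at ha ⊢
          obtain ⟨m, rfl⟩ := Subgroup.mem_zpowers_iff.1 hg
          show D.x • (D.y ^ m • a) = D.y ^ m • a
          rw [← zpow_mod_orderOf, orderOf_eq_prime D.y_pow D.y_ne]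
          obtain ⟨i, hi⟩ := Int.eq_ofNat_of_zero_le (Int.emod_nonneg m (show ((3 : ℕ) : ℤ) ≠ 0 by norm_num))
          rw [hi, zpow_natCast]
          clear hi
          induction i with
          | zero => simpa using ha
          | succ i ih => rw [pow_succ', mul_smul]; exact hy _ ih }
    have hnd3 : ¬ 3 ∣ Nat.card S := by
      have e : Nat.card S = Nat.card (fixedPoints X Ω) := rfl
      have h1 : 27 % 13 = Nat.card (fixedPoints X Ω) % 13 := h27 ▸ hmod
      rw [e]; omega
    obtain ⟨⟨c, hc⟩, hcy⟩ := hY.nonempty_fixed_point_of_prime_not_dvd_card S hnd3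
    have hyc : D.y • c = c := congrArg Subtype.val (hcy ⟨D.y, Subgroup.mem_zpowers _⟩)
    have h3 : 3 ∣ Nat.card (stabilizer G c) := by
      rw [← orderOf_eq_prime D.y_pow D.y_ne]
      exact Subgroup.orderOf_dvd_natCard (stabilizer G c) hyc
    have := hstab c
    rw [h27] at this
    omega
  · -- the elementary abelian group of order 25
    have hF := nfix_lt (Ω := Ω) D.w_ne
    set F := nfix Ω D.w with hFd
    obtain ⟨P, hP, hf⟩ := exists_sub (f5 D.w D.b) (· + ·) D.f5_zero D.f5_mul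
      (fun v => ⟨-v, neg_add_cancel v⟩)
      (fun v hv e => by
        have h1 := D.nfix_f5 (Ω := Ω) hv
        rw [e, nfix_one] at h1
        omega) (fun v u c h h' => add_left_cancel (h.trans h'.symm))
    haveI : Fintype P := Fintype.ofFinite P
    obtain ⟨hs, hc⟩ := sum_nfix P _ hP hf D.f5_zero (F := F) fun v hv => D.nfix_f5 hv
    have hc25 : Fintype.card P = 25 := hc.trans rfl
    obtain ⟨⟨k, hk⟩, hB⟩ := burnside (Ω := Ω) P
    have hst : ∀ c : Ω, Nat.card (stabilizer P c) ≤ 5 := by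
      intro c
      have hd := Subgroup.card_subgroup_dvd_card (stabilizer P c)
      rw [Nat.card_eq_fintype_card (α := P), hc25] at hd
      have h25 : Nat.card (stabilizer P c) ≠ 25 := by
        intro e
        have htop : stabilizer P c = ⊤ :=
          Subgroup.eq_top_of_card_eq _ (by rw [e, Nat.card_eq_fintype_card (α := P), hc25])
        have hPle : P ≤ stabilizer G c := fun g hg => by
          have : (⟨g, hg⟩ : P) ∈ stabilizer P c := htop ▸ Subgroup.mem_top _
          exact this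
        have := Subgroup.card_dvd_of_le hPle
        rw [Nat.card_eq_fintype_card (α := P), hc25] at this
        have hs := hstab c
        rcases h4065 with e | e <;> rw [e] at hs <;> omega
      have h := Nat.le_of_dvd (by norm_num) hd
      by_contra hgt
      interval_cases (Nat.card (stabilizer P c)) <;> omega
    have hle5 := hB 5 hst
    rw [hs] at hle5 hk
    rw [show Fintype.card (ZMod 5 × ZMod 5) = 25 from rfl] at hle5 hk
    rw [hc25] at hk
    rcases h4065 with e | e <;> omega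

end Facts

end Cfsg.Agent.KnownA.Tits
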