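import Cfsg.Agent.Lib.KnownA.Tits.Batch
import Cfsg.Agent.Lib.KnownA.Tits.Fixed

/-!
Certified elements of the Tits group, as words in root elements acting on bit rows.
-/

set_option autoImplicit false
set_option maxRecDepth 100000
set_option linter.all false

namespace Cfsg.Agent.KnownA.Tits

open Cfsg.Lie Cfsg.Agent.Lib.Chev Cfsg.Agent.Lib.Chev.Tw Cfsg.Agent.Lib.Chev.Tw.F4
open scoped Matrix

/-- Eight words whose elements lie in the derived subgroup. -/
def alph : List (List ℕ) :=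
  [[33, 24], [14, 23], [28, 30], [19, 17], [20, 22, 19, 27, 25, 28], [28, 25, 27, 19, 22, 20],
    [20, 22, 17, 27, 25, 30], [30, 25, 27, 17, 22, 20]]

/-- The root word of an index list. -/
def word (l : List ℕ) : List ℕ := l.flatMap fun i => alph.getD i []

/-- Powers of a word. -/
def rep (k : ℕ) (l : List ℕ) : List ℕ := (List.replicate k l).flatten

/-- The unit rows, packed. -/
def unitRows : ℕ := pack ((List.range 52).map fun a => 2 ^ a)

/-- Equality of two words on the unit rows. -/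
def chkEq (u v : List ℕ) : Bool :=
  applyBW (onesN 52) (word u) unitRows == applyBW (onesN 52) (word v) unitRows

/-- A word that is not trivial. -/
def chkNe (u : List ℕ) : Bool := applyBW (onesN 52) (word u) unitRows != unitRows

/-- A certified index list. -/
def xL : List ℕ := [0, 1, 2, 3]

/-- A certified index list. -/
def yL : List ℕ := [3, 4, 0, 1, 3, 1, 4, 1, 0, 7, 2, 1, 0, 2]

/-- A certified index list. -/
def zL : List ℕ := [0, 1]

/-- A certified index list. -/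
def b1L : List ℕ := [4, 1, 0, 4, 1, 0, 3, 1, 0, 5, 0, 1, 7, 2]

/-- A certified index list. -/
def b2L : List ℕ := [2, 6, 0, 2, 0, 1, 3, 1, 7, 1, 0, 7, 0, 2]

/-- A certified index list. -/
def wL : List ℕ := [2, 3]

/-- A certified index list. -/
def bL : List ℕ := [0, 2, 3, 1, 0, 4, 1, 0, 3, 1, 7, 0, 5, 2, 1, 0]

/-- Conjugators for the thirteen cyclic subgroups of order three. -/
def conj3L : List (List ℕ) :=
  [[0, 2, 6, 0, 1, 4, 0, 5, 1, 0, 7, 2],
    [4, 0, 6, 1, 3, 1, 3, 1, 7, 0, 5],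
    [2, 0, 6, 0, 1, 4, 1, 0, 5, 3, 0, 2],
    [4, 1, 6, 1, 4, 1, 7, 2, 0, 1, 5],
    [],
    [3, 4, 1, 0, 6, 1, 7, 0, 1, 5, 3],
    [4, 0, 4, 1, 0, 5, 1, 5, 0, 7, 2],
    [0, 2, 0, 6, 0, 1, 5, 1, 0, 5, 3, 0, 2],
    [6, 0, 1, 3, 4, 0, 7, 0, 5, 0, 7],
    [2, 0, 2, 4, 1, 0, 6, 1, 0, 7, 1, 5, 0, 2],
    [4, 0, 6, 1, 4, 0, 7, 1, 5, 3, 0],
    [2, 3, 4, 0, 1, 0, 5, 3, 2],
    [3, 4, 1, 6, 0, 5, 1, 7, 0, 5]]

/-- Conjugators for the subgroups of order five. -/
def conj5L : List (List ℕ) :=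
  [[0, 1, 0, 2, 3, 1, 3, 5, 0, 1, 5, 0, 5, 1],
    [0, 1, 2, 3, 1, 0, 4, 1, 7, 0, 5, 0, 7, 0],
    [0, 6, 0, 4, 1, 0, 2, 0, 7, 1, 7, 1, 7, 0],
    [0, 1, 4, 0, 2, 6, 0, 5, 0, 7, 1, 5, 1, 0],
    [0, 4, 1, 4, 0, 6, 0, 5, 1, 5, 0]]

/-- The relations. -/
theorem rel_chk : (chkEq (rep 13 xL) [] && chkEq (rep 3 yL) [] && chkEq (xL ++ yL) (yL ++ rep 3 xL) &&
    chkEq (rep 3 zL) [] && chkEq (rep 3 b1L) [] && chkEq (rep 3 b2L) [] && chkEq (zL ++ b1L) (b1L ++ zL) &&
    chkEq (zL ++ b2L) (b2L ++ zL) && chkEq (b2L ++ b1L) (b1L ++ b2L ++ rep 2 zL) &&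
    chkEq (rep 5 wL) [] && chkEq (rep 5 bL) [] && chkEq (wL ++ bL) (bL ++ wL) &&
    chkNe xL && chkNe yL && chkNe zL && chkNe wL) = true := by
  decide +kernel

/-- The conjugations in the group of order twenty-seven. -/
theorem conj3_chk : ((List.range 13).all fun k =>
    let v := reps3.getD k 0
    chkEq (rep v.1.val zL ++ rep v.2.1.val b1L ++ rep v.2.2.val b2L ++ conj3L.getD k [])
      (conj3L.getD k [] ++ zL)) = true := by
  decide +kernel

/-- The conjugations in the group of order twenty-five. -/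
theorem conj5_chk : ((List.range 5).all fun i =>
    chkEq (bL ++ rep i wL ++ conj5L.getD i []) (conj5L.getD i [] ++ wL)) = true := by
  decide +kernel

end Cfsg.Agent.KnownA.Tits
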