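import Cfsg.Agent.Lib.KnownA.Tits.Data

/-!
The certified words satisfy the relations inside the derived subgroup of the twisted group of type F4
over two elements.
-/

set_option autoImplicit false
set_option linter.all false
set_option maxRecDepth 100000

namespace Cfsg.Agent.KnownA.Tits

open Cfsg.Lie Cfsg.Agent.Lib.Chev Cfsg.Agent.Lib.Chev.Tw Cfsg.Agent.Lib.Chev.Tw.F4
open scoped Matrix

variable {K : Type*} [Field K] [Fintype K] (A : Par K 0)

include A

theorem alph_mem : ∀ w ∈ alph, wd A w ∈ ⁅G1 K 0, G1 K 0⁆ := by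
  set C := ⁅G1 K 0, G1 K 0⁆
  have e24 : wd A [33, 24] ∈ C :=
    even_base_mem A (k := 0) (by decide) ([33, 24], false) (by simp [baseC]) rfl
  have e30 : wd A [28, 30] ∈ C :=
    even_base_mem A (k := 1) (by decide) ([28, 30], false) (by simp [baseC]) rfl
  have hn : ∀ k, k < twF4.nb → (sys A).G.nl K (twF4.blk k) ∈ G1 K 0 := fun k hk => n_mem A k hk
  have conj : ∀ (k : ℕ) (hk : k < twF4.nb) (w w' : List ℕ), (∀ r ∈ w, r < chevF4.nroots) →
      mapB (twF4.blk k) w = w' → wd A w ∈ C → wd A w' ∈ C := by
    intro k hk w w' hw he h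
    rw [← he, ← conj_wd A ((sys A).blk_facts hk).1 hw]
    have := commutator_conj_mem (inv_mem (hn k hk)) h
    convert this using 1; group
  have two : ∀ (k : ℕ) (hk : k < twF4.nb) (w w' : List ℕ), (∀ r ∈ w, r < chevF4.nroots) →
      mapB (twF4.blk k) w = w' → wd A w ∈ G1 K 0 → wd A w * wd A w ∈ C →
      wd A (w' ++ w) ∈ C ∧ wd A (w' ++ w).reverse ∈ C := by
    intro k hk w w' hw he hg hsq
    have key : wd A (w' ++ w) ∈ C := by
      rw [wd_append, ← he, ← conj_wd A ((sys A).blk_facts hk).1 hw]
      have h := mul_mem (Subgroup.commutator_mem_commutator (inv_mem (hn k hk)) hg) hsq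
      rw [commutatorElement_def] at h
      convert h using 1; group
    exact ⟨key, by rw [← wd_inv]; exact inv_mem key⟩
  have h30 : wd A [27, 25, 30] = wd A [27, 25, 28] * wd A [28, 30] := by
    haveI := charP_two A
    have h11 : (1 : K) + 1 = 0 := CharTwo.add_self_eq_zero 1
    have e := E_mul A posC_chk (1 : K) 1 1 0 0 0 1 1
    simpa [E, wd, Good.wordG, posC, h11, (sys A).G.X_zero] using e.symm
  have sq1 : wd A [27, 25, 28] * wd A [27, 25, 28] ∈ C := by rw [W1_sq A]; exact e30
  have g30 : wd A [27, 25, 30] ∈ G1 K 0 :=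
    wd_base_mem A (k := 1) (by decide) ([27, 25, 30], true) (by simp [baseC])
  have sq4 : wd A [27, 25, 30] * wd A [27, 25, 30] ∈ C := by
    have h := mul_mem (mul_mem (commutator_conj_mem (W1_mem A) e30) sq1) e30
    rw [h30]
    convert h using 1; group
  have t5 := two 1 (by decide) [27, 25, 28] [20, 22, 19] (by decide) (by decide +kernel) (W1_mem A) sq1
  have t7 := two 1 (by decide) [27, 25, 30] [20, 22, 17] (by decide) (by decide +kernel) g30 sq4
  simp only [alph, List.mem_cons, List.not_mem_nil, or_false, forall_eq_or_imp, forall_eq]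
  exact ⟨e24, conj 0 (by decide) [33, 24] _ (by decide) (by decide +kernel) e24, e30,
    conj 1 (by decide) [28, 30] _ (by decide) (by decide +kernel) e30, t5.1, t5.2, t7.1, t7.2⟩

theorem word_mem (l : List ℕ) : wd A (word l) ∈ ⁅G1 K 0, G1 K 0⁆ := by
  induction l with
  | nil => rw [show word [] = [] from rfl, wd_nil]; exact one_mem _
  | cons i l ih =>
    rw [show word (i :: l) = alph.getD i [] ++ word l from rfl, wd_append]
    refine mul_mem ?_ ih
    rcases Nat.lt_or_ge i alph.length with h | h
    · rw [List.getD_eq_getElem _ _ h]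
      exact alph_mem A _ (List.getElem_mem h)
    · rw [List.getD_eq_default _ _ h, wd_nil]
      exact one_mem _

/-- The element of a list of indices. -/
def el (l : List ℕ) : ↥(commutator ↥(G1 K 0)) :=
  ⟨⟨wd A (word l), Subgroup.commutator_le_self _ (word_mem A l)⟩, by
    have h := word_mem A l
    rw [← Subgroup.map_subtype_commutator] at h
    exact (Subgroup.mem_map_iff_mem (G1 K 0).subtype_injective).1 h⟩

theorem el_val (l : List ℕ) : ((el A l : ↥(G1 K 0)) : GL chevF4.Idx K) = wd A (word l) := rfl

theorem el_append (u v : List ℕ) : el A (u ++ v) = el A u * el A v := by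
  refine Subtype.ext (Subtype.ext ?_)
  show wd A (word (u ++ v)) = wd A (word u) * wd A (word v)
  rw [← wd_append]
  congr 1
  simp [word]

theorem el_nil : el A [] = 1 := Subtype.ext (Subtype.ext (wd_nil A))

theorem el_rep (k : ℕ) (u : List ℕ) : el A (rep k u) = el A u ^ k := by
  induction k with
  | zero => simpa [rep] using el_nil A
  | succ k ih =>
    rw [show rep (k + 1) u = u ++ rep k u from rfl, el_append, ih, pow_succ']

omit A [Fintype K] in
theorem bas_cd (z : chevF4.Idx) : bas chevF4 K (cd chevF4 z) = Pi.single z 1 := by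
  funext x
  by_cases h : x = z
  · subst h; simp [bas]
  · rw [Pi.single_eq_of_ne h]
    refine bas_apply_eq_zero fun e => h ?_
    rcases x with i | i <;> rcases z with j | j <;> simp only [cd, Sum.elim_inl, Sum.elim_inr] at e
    · rw [Fin.ext (show i.val = j.val by omega)]
    · have := j.2; omega
    · have := i.2; omega
    · rw [Fin.ext e]

omit A [Field K] [Fintype K] in
theorem word_rows (l : List ℕ) : ∀ r ∈ word l, r ∈ rowL.map Prod.fst := by
  intro r hr
  simp only [word, List.mem_flatMap] at hr
  obtain ⟨i, _, hr⟩ := hr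
  have hall : ∀ w ∈ alph, ∀ r ∈ w, r ∈ rowL.map Prod.fst := by decide
  rcases Nat.lt_or_ge i alph.length with h | h
  · rw [List.getD_eq_getElem _ _ h] at hr
    exact hall _ (List.getElem_mem h) r hr
  · rw [List.getD_eq_default _ _ h] at hr
    simp at hr

omit A [Field K] [Fintype K] in
theorem batch (l : List ℕ) : applyBW (onesN 52) (word l) unitRows =
    pack ((List.range 52).map fun a => applyTW (word l) (2 ^ a)) := by
  have h := applyBW_pack (word l) (word_rows l) ((List.range 52).map fun a => 2 ^ a) (by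
    simp only [List.mem_map, List.mem_range]
    rintro _ ⟨a, ha, rfl⟩
    exact Nat.pow_lt_pow_right (by norm_num) ha)
  rw [List.length_map, List.length_range, List.map_map] at h
  exact h

theorem el_eq {u v : List ℕ} (h : chkEq u v = true) : el A u = el A v := by
  haveI := charP_two A
  have hu : ∀ w a, a < 52 → applyTW (word w) (2 ^ a) < 2 ^ 52 := fun w a ha =>
    (applyTW_spec (K := K) (word w) (word_rows w) _ (Nat.pow_lt_pow_right (by norm_num) ha)).1
  have e := h
  simp only [chkEq, beq_iff_eq, batch] at e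
  have e' := pack_inj (by simp) (by
    simp only [List.mem_map, List.mem_range]; rintro _ ⟨a, ha, rfl⟩; exact hu u a ha) (by
    simp only [List.mem_map, List.mem_range]; rintro _ ⟨a, ha, rfl⟩; exact hu v a ha) e
  rw [List.map_inj_left] at e'
  refine Subtype.ext (Subtype.ext (Units.ext ?_))
  rw [el_val, el_val, wd_val, wd_val]
  refine Matrix.ext_of_single_vecMul fun x => ?_
  have hx : cd chevF4 x < 52 := Tw.cd_lt chevF4 x
  have h2 : (2 : ℕ) ^ cd chevF4 x < 2 ^ 52 := Nat.pow_lt_pow_right (by norm_num) hx
  have s := fun w => (applyTW_spec (K := K) (word w) (word_rows w) _ h2).2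
  have su := s u
  rw [e' _ (List.mem_range.2 hx), s v, bvec_single, bas_cd] at su
  exact su.symm

theorem el_ne {u : List ℕ} (h : chkNe u = true) : el A u ≠ 1 := by
  haveI := charP_two A
  intro e
  simp only [chkNe, bne_iff_ne, ne_eq] at h
  apply h
  rw [batch]
  refine congrArg pack (List.map_congr_left fun a ha => ?_)
  have h2 : (2 : ℕ) ^ a < 2 ^ 52 := Nat.pow_lt_pow_right (by norm_num) (List.mem_range.1 ha)
  obtain ⟨hlt, hs⟩ := applyTW_spec (K := K) (word u) (word_rows u) _ h2
  refine bvec_inj K hlt h2 ?_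
  rw [hs, ← wd_val A, ← el_val A, e]
  simp

/-- The relations and conjugations hold in the derived subgroup. -/
def facts : Facts ↥(commutator ↥(G1 K 0)) := by
  have h := rel_chk
  simp only [Bool.and_eq_true] at h
  obtain ⟨⟨⟨⟨⟨⟨⟨⟨⟨⟨⟨⟨⟨⟨⟨h1, h2⟩, h3⟩, h4⟩, h5⟩, h6⟩, h7⟩, h8⟩, h9⟩, h10⟩, h11⟩, h12⟩, n1⟩, n2⟩, n3⟩, n4⟩ := h
  have pw : ∀ {k : ℕ} {u : List ℕ}, chkEq (rep k u) [] = true → el A u ^ k = 1 := fun h => by
    rw [← el_rep, el_eq A h, el_nil]
  exact
  { x := el A xL
    y := el A yL
    x_ne := el_ne A n1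
    x_pow := pw h1
    y_ne := el_ne A n2
    y_pow := pw h2
    xy := by rw [← el_rep, ← el_append, ← el_append]; exact el_eq A h3
    z := el A zL
    b1 := el A b1L
    b2 := el A b2L
    z_ne := el_ne A n3
    z_pow := pw h4
    b1_pow := pw h5
    b2_pow := pw h6
    zb1 := by rw [← el_append, ← el_append]; exact el_eq A h7
    zb2 := by rw [← el_append, ← el_append]; exact el_eq A h8
    b21 := by rw [← el_rep, ← el_append, ← el_append, ← el_append]; exact el_eq A h9
    conj3 := by
      intro v hv
      have hc := conj3_chk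
      simp only [List.all_eq_true, List.mem_range] at hc
      obtain ⟨k, hk, rfl⟩ := List.getElem_of_mem hv
      refine ⟨el A (conj3L.getD k []), ?_⟩
      have hck := hc k hk
      simp only [List.getD_eq_getElem _ _ hk] at hck
      simp only [f3, ← el_rep, ← el_append]
      exact el_eq A hck
    w := el A wL
    b := el A bL
    w_ne := el_ne A n4
    w_pow := pw h10
    b_pow := pw h11
    wb := by rw [← el_append, ← el_append]; exact el_eq A h12
    conj5 := by
      intro i
      have hc := conj5_chk
      simp only [List.all_eq_true, List.mem_range] at hc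
      refine ⟨el A (conj5L.getD i.val []), ?_⟩
      simp only [f5, ← el_rep, ← el_append]
      rw [show (1 : ZMod 5).val = 1 from rfl, show rep 1 bL = bL from rfl]
      exact el_eq A (hc i.val i.val_lt) }

theorem no_two_transitive {Ω : Type*} [Finite Ω] [MulAction ↥(commutator ↥(G1 K 0)) Ω]
    [FaithfulSMul ↥(commutator ↥(G1 K 0)) Ω] (hn : 3 ≤ Nat.card Ω) :
    ¬ MulAction.IsMultiplyPretransitive ↥(commutator ↥(G1 K 0)) Ω 2 :=
  (facts A).not_two_transitive (card_comm A) hn

end Cfsg.Agent.KnownA.Tits
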